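import Cfsg.Agent.H607.Car.E6Def
import Cfsg.Agent.H479.Car.ThreeTab

/-!
# Homomorphisms of the root lattice of type `E₆` modulo 3 lift with their stabilisers (S3852, task T1', helper479)
-/

set_option autoImplicit false

namespace Cfsg.Agent.H479.Car

open CoxeterSystem Cfsg Cfsg.Lie Cfsg.Lie.ChevalleyDatum
open Cfsg.Agent.ChevalleyStructure Cfsg.Agent.ChevalleyStructure.CoxeterGeom
  Cfsg.Agent.ChevalleyStructure.CoxeterGeomTypes Cfsg.Agent.Tits.Roots Cfsg.Agent.H607.Car
  Cfsg.Agent.H720.TwFr

theorem cartan_eq : ∀ i j : Fin 6, cartanOf chevE6 6 i j = ca i j := by decide +kernel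

section

variable {A : Type*} [AddCommGroup A]

theorem val_add (c : Fin 6 → A) (a b : Fin 6 → ℤ) : val c (a + b) = val c a + val c b := by
  simp only [val, Pi.add_apply, add_smul, Finset.sum_add_distrib]

theorem val_sr (c : Fin 6 → A) (i : Fin 6) : val c (sr i) = c i := by
  rw [val, Finset.sum_eq_single i]
  · simp [sr]
  · intro j _ hj
    simp [sr, Pi.single_eq_of_ne hj]
  · simp

/-- the action of the Weyl group on homomorphisms -/
def act (c : Fin 6 → A) (w : W6) : Fin 6 → A := fun j => val c (rp w (sr j))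

theorem val_act (c : Fin 6 → A) (w : W6) (a : Fin 6 → ℤ) : val c (rp w a) = val (act c w) a := by
  have h1 : a = ∑ j, a j • sr j := by
    funext k
    simp [sr, Finset.sum_apply, Pi.single_apply]
  have h2 : ∀ (s : Finset (Fin 6)), val c (∑ j ∈ s, a j • rp w (sr j)) = ∑ j ∈ s, a j • val c (rp w (sr j)) := by
    intro s
    classical
    induction s using Finset.induction_on with
    | empty => simp [val]
    | insert b s hb ih =>
      rw [Finset.sum_insert hb, Finset.sum_insert hb, val_add, ih]
      congr 1
      simp only [val, Pi.smul_apply, smul_eq_mul, mul_smul, Finset.smul_sum]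
  conv_lhs => rw [h1]
  rw [rp, map_sum]
  simp only [map_smul]
  exact h2 _

theorem act_mul (c : Fin 6 → A) (w w' : W6) : act c (w * w') = act (act c w) w' := by
  funext j
  rw [act, act, ← val_act]
  congr 1
  exact rep_mul_apply _ _ _ _ _

theorem act_one (c : Fin 6 → A) : act c 1 = c := by
  funext j
  rw [act, rp, map_one, Module.End.one_apply, val_sr]

theorem act_simple (c : Fin 6 → A) (i : Fin 6) : act c (cs6.simple i) = sc i c := by
  funext j
  have h : rp (cs6.simple i) (sr j) = sr j - Pi.single i (ca i j) := by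
    rw [rp, rep_simple, refl_apply, sr, pairing_single, mul_one, cartan_eq]
  rw [act, h, sc]
  have h1 : val c (Pi.single i (ca i j)) = ca i j • c i := by
    rw [val, Finset.sum_eq_single i]
    · simp
    · intro k _ hk
      simp [Pi.single_eq_of_ne hk]
    · simp
  have h2 := val_add c (sr j - Pi.single i (ca i j)) (Pi.single i (ca i j))
  rw [sub_add_cancel, val_sr, h1] at h2
  rw [h2, add_sub_cancel_right]

theorem fixW_iff (c : Fin 6 → A) (w : W6) : FixW c w ↔ act c w = c := by
  constructor
  · intro h
    funext j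
    rw [act, h, val_sr]
  · intro h a
    rw [val_act, h]

end

theorem act_lf (w : W6) : ∀ c : Fin 6 → ZMod 3, cl c ≠ 0 → cl (act c w) ≠ 0 ∧ lf (act c w) = act (lf c) w := by
  induction w using cs6.simple_induction_right with
  | one => intro c hc; rw [act_one, act_one]; exact ⟨hc, rfl⟩
  | mul_simple_right w i ih =>
    intro c hc
    obtain ⟨h1, h2⟩ := ih c hc
    rw [act_mul, act_mul, act_simple, act_simple, cl_sc, lf_sc h1, h2]
    exact ⟨h1, rfl⟩

/-- **T1'.** -/
theorem liftThreeSt : LiftThreeSt := by
  intro c hc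
  have hc' : cl c ≠ 0 := hc
  refine ⟨lf c, 1, isUnit_one, lf_odd hc', fun i => by rw [one_mul, lf_cast hc' i], fun w hw => ?_⟩
  rw [fixW_iff] at hw ⊢
  rw [← (act_lf w c hc').2, hw]

end Cfsg.Agent.H479.Car
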